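import Cfsg.Agent.H800.Sp.B
import Cfsg.Agent.H871.Th7.Main

/-!
# The elements of order 7 of the Baby Monster are conjugate (helper175, for S5525)

`Th ≤ B` contains a Sylow 7-subgroup of `B`, and the elements of order 7 of `Th` are conjugate.
-/

set_option autoImplicit false

namespace Cfsg.Agent.H175.U33.SevenConj

open Cfsg Subgroup

universe u

/-- an element of order `p` is conjugate to an element of a subgroup of index prime to `p` -/
theorem exists_conj_mem {G : Type*} [Group G] [Finite G] {p : ℕ} [hp : Fact p.Prime] {T : Subgroup G}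
    (hT : ¬ p ∣ T.index) {g : G} (hg : orderOf g = p) : ∃ x : G, x * g * x⁻¹ ∈ T := by
  -- a Sylow subgroup of `T` is a Sylow subgroup of `G`
  obtain ⟨P⟩ : Nonempty (Sylow p T) := inferInstance
  have hQ : IsPGroup p ↥((P : Subgroup T).map T.subtype) := P.2.map _
  have hi : ¬ p ∣ ((P : Subgroup T).map T.subtype).index := by
    intro h
    rw [Subgroup.index_map, Subgroup.ker_subtype, sup_bot_eq, Subgroup.range_subtype] at h
    rcases hp.out.dvd_mul.1 h with h1 | h1
    · exact P.not_dvd_index h1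
    · exact hT h1
  have h1 : IsPGroup p ↥(zpowers g) := IsPGroup.of_card (n := 1) (by rw [Nat.card_zpowers, hg, pow_one])
  obtain ⟨S, hS⟩ := h1.exists_le_sylow
  obtain ⟨x, hx⟩ := MulAction.exists_smul_eq G S (hQ.toSylow hi)
  have h2 : (S : Subgroup G).map (MulAut.conj x).toMonoidHom = (P : Subgroup T).map T.subtype :=
    congrArg (fun S : Sylow p G => (S : Subgroup G)) hx
  refine ⟨x, ?_⟩
  have h3 : x * g * x⁻¹ ∈ (P : Subgroup T).map T.subtype := by
    rw [← h2]
    exact ⟨g, hS (mem_zpowers g), rfl⟩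
  obtain ⟨y, -, hy⟩ := h3
  rw [← hy]
  exact y.2

/-- **the elements of order 7 of the Baby Monster are conjugate** (the concrete group) -/
theorem th_seven : ∀ g h : Spor.BabyMonster, orderOf g = 7 → orderOf h = 7 → IsConj g h := by
  have hfin : Finite Spor.BabyMonster :=
    Nat.finite_of_card_ne_zero (by rw [Cfsg.Agent.S1704.result.2]; norm_num)
  have h7 : Fact (Nat.Prime 7) := ⟨by norm_num⟩
  obtain ⟨T, hT⟩ := Cfsg.Agent.H800.Sp.B.exists_th_B
  have hi := Cfsg.Agent.H800.Sp.B.index_th hT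
  obtain ⟨e⟩ := hT
  intro g h hg hh
  obtain ⟨x, hx⟩ := exists_conj_mem (p := 7) hi hg
  obtain ⟨y, hy⟩ := exists_conj_mem (p := 7) hi hh
  have ox : orderOf (e ⟨x * g * x⁻¹, hx⟩) = 7 := by
    rw [MulEquiv.orderOf_eq, Subgroup.orderOf_mk, ← MulAut.conj_apply, MulEquiv.orderOf_eq, hg]
  have oy : orderOf (e ⟨y * h * y⁻¹, hy⟩) = 7 := by
    rw [MulEquiv.orderOf_eq, Subgroup.orderOf_mk, ← MulAut.conj_apply, MulEquiv.orderOf_eq, hh]
  have h1 : IsConj (e ⟨x * g * x⁻¹, hx⟩) (e ⟨y * h * y⁻¹, hy⟩) :=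
    (Cfsg.Agent.H871.Th7.conj7 _ ox).trans (Cfsg.Agent.H871.Th7.conj7 _ oy).symm
  have h2 : IsConj (x * g * x⁻¹) (y * h * y⁻¹) := by
    have h3 := (T.subtype.comp e.symm.toMonoidHom).map_isConj h1
    simpa using h3
  have h4 : IsConj g (x * g * x⁻¹) := isConj_iff.2 ⟨x, rfl⟩
  have h5 : IsConj h (y * h * y⁻¹) := isConj_iff.2 ⟨y, rfl⟩
  exact (h4.trans h2).trans h5.symm

/-- any group isomorphic to the Baby Monster -/
theorem conj_seven {L : Type u} [Group L] (h : Spor.IsoB L) {x y : L} (hx : orderOf x = 7) (hy : orderOf y = 7) :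
    IsConj x y := by
  obtain ⟨e⟩ := h
  have h1 := e.symm.toMonoidHom.map_isConj (th_seven (e x) (e y) (by rw [MulEquiv.orderOf_eq, hx])
    (by rw [MulEquiv.orderOf_eq, hy]))
  simpa using h1

end Cfsg.Agent.H175.U33.SevenConj
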